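import Groth.Agent.AlgSpLib.AffineDescProps
import Groth.Agent.AlgSpLib.FlatMono
import Groth.Agent.AlgSpLib.Covers
import Groth.Agent.AlgSpDec.AffineRep
import Groth.Agent.AlgSpPts.Misc

/-!
# Affineness of algebraic spaces descends along field extensions
-/

set_option backward.isDefEq.respectTransparency false
set_option backward.isDefEq.respectTransparency.types false

universe u

open CategoryTheory Limits Opposite AlgebraicGeometry AlgSp
open Groth.Agent.AlgSpLib Groth.Agent.AlgSpPts Groth.Agent.AlgSpDec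

namespace Groth.Agent.H14Misc

theorem exists_iso_yon_affine_of_bc {k K : Type u} [Field k] [Field K] (i : CommRingCat.of k ⟶ CommRingCat.of K)
    {X : Sp (Spec (CommRingCat.of k))} (hX : IsAlgSpace X) (T : Over (Spec (CommRingCat.of k))) [IsAffine T.left]
    (e : X ⨯ (yon _).obj (Over.mk (Spec.map i)) ≅ (yon _).obj T) :
    ∃ U : Over (Spec (CommRingCat.of k)), IsAffine U.left ∧ Nonempty (X ≅ (yon _).obj U) := by
  let B : Over (Spec (CommRingCat.of k)) := Over.mk (𝟙 _)
  let c : Over.mk (Spec.map i) ⟶ B := CategoryTheory.Over.homMk (Spec.map i) (Category.comp_id _)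
  let hB : IsTerminal ((yon (Spec (CommRingCat.of k))).obj B) := Over.mkIdTerminal.isTerminalObj (yon _) _
  let f : X ⟶ (yon _).obj B := hB.from X
  have hfl : Flat c.left := (HasRingHomProperty.Spec_iff (P := @Flat)).2 (by
    show RingHom.Flat i.hom
    algebraize [i.hom]
    exact RingHom.flat_algebraMap_iff.2 (Module.Flat.of_free))
  have hcov : IsFpqcCover (fun _ : PUnit.{u + 1} => (yon _).obj (Over.mk (Spec.map i)))
      (fun _ => (yon _).map c) :=
    isFpqcCover_of_qc_flat_surjective (IsAlgSpace.yon_obj _) (IsAlgSpace.yon_obj _) _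
      (AlgSpPts.isQuasiCompactMor_of_repWith
        ((repWith_yon_map_iff _ c).2 (inferInstanceAs (QuasiCompact (Spec.map i)))))
      (locP_of_repWith ((repWith_yon_map_iff _ c).2 hfl))
      (fun y => by
        obtain ⟨z, rfl⟩ := (Points.schemeHomeo B).surjective y
        let z₀ : (Over.mk (Spec.map i)).left := (default : PrimeSpectrum K)
        refine ⟨Points.schemeHomeo _ z₀, (Points.map_yon_map_apply c z₀).trans ?_⟩
        exact congrArg (Points.schemeHomeo B) (Subsingleton.elim (α := PrimeSpectrum k) _ _))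
  have sq : IsPullback (e.inv ≫ prod.fst) (e.inv ≫ prod.snd) f ((yon _).map c) :=
    ((hB.hom_ext (hB.from _) ((yon _).map c)) ▸
      IsPullback.of_is_product' (prodIsProd X ((yon _).obj (Over.mk (Spec.map i)))) hB).of_iso e
      (Iso.refl _) (Iso.refl _) (Iso.refl _) (by simp) (by simp) (by simp [f]) (by simp)
  have haff : IsAffineMor f :=
    (isLocalOnBase_fpqc_isAffineMor _ _ (IsAlgSpace.yon_obj _) (fun _ : PUnit.{u + 1} => IsAlgSpace.yon_obj _) hcov
      f hX (fun _ => (yon _).obj T) (fun _ => e.inv ≫ prod.snd) (fun _ => e.inv ≫ prod.fst)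
      (fun _ => IsAlgSpace.yon_obj _) (fun _ => sq)).2 fun _ => by
      obtain ⟨l, hl⟩ := (yon _).map_surjective (e.inv ≫ prod.snd (X := X))
      have : IsAffine (Over.mk (Spec.map i)).left := inferInstanceAs (IsAffine (Spec _))
      show IsAffineMor (e.inv ≫ prod.snd (X := X))
      rw [← hl]
      exact AlgSpDec.isAffineMor_of_repWith le_rfl ((repWith_yon_map_iff _ _).2 (isAffineHom_of_isAffine _))
  have : IsAffine B.left := inferInstanceAs (IsAffine (Spec _))
  obtain ⟨W, w, fst, sqW, hW⟩ := haff (Z := B) this (𝟙 _)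
  have : IsIso fst := sqW.isIso_fst_of_isIso
  exact ⟨W, hW, ⟨(asIso fst).symm⟩⟩

end Groth.Agent.H14Misc
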