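import Groth.Agent.IsoNatLib.TriRep
import Groth.Agent.GerbLib.Band
import Groth.Agent.AlgSpLib.Sheaf
import Groth.Agent.AlgSpLib.Rep
import Groth.Agent.AlgSpPts.Descent
import Groth.Agent.AlgSpBase.JInv
import Groth.Agent.GerbAffineStab
import Mathlib.CategoryTheory.Monoidal.Cartesian.Grp

/-!
# The automorphism space of a point, over the base of the point
-/

set_option autoImplicit false
set_option backward.isDefEq.respectTransparency false
set_option backward.isDefEq.respectTransparency.types false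

universe u

open CategoryTheory CategoryTheory.Functor CategoryTheory.Limits AlgebraicGeometry Opposite AlgSp
open Groth.Agent.FibBase Groth.Agent.AlgSpLib Groth.Agent.AlgSpBase Groth.Agent.IsoNatLib

namespace Groth.Agent.H14Misc

variable {S : Scheme.{u}} {B : Scheme.{u}} {p : B ⟶ S} {𝒳 : AlgSt.Cat S} [hf : FibCat.IsFibGrpd 𝒳.p]
  {x : FibCat.overCat (Over.mk p) ⥤ᵇ 𝒳}

theorem autO_ext {y : 𝒳.obj} {α β : Gerb.AutO y} (h : α.hom.1 = β.hom.1) : α = β :=
  Aut.ext (Subtype.ext h)

theorem existsUnique_autRes {y y' : 𝒳.obj} (m : y' ⟶ y) (α : Gerb.AutO y) :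
    ∃! β : Gerb.AutO y', β.hom.1 ≫ m = m ≫ α.hom.1 := by
  obtain ⟨b, hb, hbm⟩ := GerbLib.exists_res hf m α
  refine ⟨GerbLib.autOMk hf b hb, hbm, fun β hβ => autO_ext (GerbLib.hom_ext_cart hf m ?_ (hβ.trans hbm.symm))⟩
  exact (GerbLib.autO_map _ β).trans hb.symm

/-- Restriction of automorphisms. -/
noncomputable def autRes {y y' : 𝒳.obj} (m : y' ⟶ y) : Gerb.AutO y →* Gerb.AutO y' where
  toFun α := (existsUnique_autRes m α).choose
  map_one' := ((existsUnique_autRes m 1).choose_spec.2 1 (by
    show 𝟙 y' ≫ m = m ≫ 𝟙 y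
    rw [Category.id_comp, Category.comp_id])).symm
  map_mul' α β := ((existsUnique_autRes m (α * β)).choose_spec.2 _ (by
    show ((existsUnique_autRes m β).choose.hom.1 ≫ (existsUnique_autRes m α).choose.hom.1) ≫ m =
      m ≫ β.hom.1 ≫ α.hom.1
    rw [Category.assoc, (existsUnique_autRes m α).choose_spec.1, ← Category.assoc,
      (existsUnique_autRes m β).choose_spec.1, Category.assoc])).symm

theorem autRes_spec {y y' : 𝒳.obj} (m : y' ⟶ y) (α : Gerb.AutO y) : (autRes m α).hom.1 ≫ m = m ≫ α.hom.1 :=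
  (existsUnique_autRes m α).choose_spec.1

theorem autRes_eq {y y' : 𝒳.obj} {m : y' ⟶ y} {α : Gerb.AutO y} {β : Gerb.AutO y'}
    (h : β.hom.1 ≫ m = m ≫ α.hom.1) : autRes m α = β :=
  ((existsUnique_autRes m α).choose_spec.2 β h).symm

theorem autRes_id (y : 𝒳.obj) (α : Gerb.AutO y) : autRes (𝟙 y) α = α :=
  autRes_eq (by rw [Category.comp_id, Category.id_comp])

theorem autRes_comp {y y' y'' : 𝒳.obj} (m : y' ⟶ y) (n : y'' ⟶ y') (α : Gerb.AutO y) :
    autRes (n ≫ m) α = autRes n (autRes m α) :=
  autRes_eq (by rw [← Category.assoc, autRes_spec, Category.assoc, autRes_spec, Category.assoc])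

/-- Restriction along an isomorphism. -/
noncomputable def autResEquiv {y y' : 𝒳.obj} (m : y' ≅ y) : Gerb.AutO y ≃* Gerb.AutO y' where
  toFun := autRes m.hom
  invFun := autRes m.inv
  left_inv α := by rw [← autRes_comp, m.inv_hom_id, autRes_id]
  right_inv α := by rw [← autRes_comp, m.hom_inv_id, autRes_id]
  map_mul' := map_mul _

/-- The point of the stack under a scheme over the base. -/
abbrev toU (T : Over B) : (Over.map p).obj T ⟶ Over.mk p := CategoryTheory.Over.homMk T.hom rfl

/-- A scheme over the base as an object over the point. -/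
abbrev slc (T : Over B) : Over (Over.mk p) := Over.mk (toU (p := p) T)

/-- Functoriality of `slc`. -/
def slcMap {T' T : Over B} (φ : T' ⟶ T) : slc (p := p) T' ⟶ slc T :=
  CategoryTheory.Over.homMk ((Over.map p).map φ) (Over.OverMorphism.ext (Over.w φ))

variable (R : IsoNatLib.AutRep x)

/-- The structure section. -/
noncomputable def unitBase (p : B ⟶ S) :
    (yon B).obj (Over.mk (𝟙 B)) ⟶ (jinv p).obj ((yon S).obj (Over.mk p)) :=
  (J B).uliftYonedaEquiv.symm ⟨toU (Over.mk (𝟙 B))⟩

/-- The automorphism space over the base. -/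
noncomputable def autBase : Sp B := pullback ((jinv p).map R.a) (unitBase p)

theorem isAlgSpace_autBase : IsAlgSpace (autBase R) :=
  isAlgSpace_pullback (isAlgSpace_jinv p R.F.property) (IsAlgSpace.yon_obj _)
    (isAlgSpace_jinv p (IsAlgSpace.yon_obj _)) _ _

theorem isQuasiSeparatedSp_autBase (h : IsQuasiSeparatedMor R.a) : IsQuasiSeparatedSp (autBase R) := by
  have e₀ : (AlgSpPts.isTerminalYon B).from (autBase R) = pullback.snd ((jinv p).map R.a) (unitBase p) :=
    (AlgSpPts.isTerminalYon B).hom_ext _ _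
  rw [AlgSpPts.isQuasiSeparatedSp_iff_mor, e₀]
  refine AlgSpPts.isQuasiSeparatedMor_of_isPullback (IsPullback.of_hasPullback _ _) ?_
  have sq := jinv_map_isPullback p (IsPullback.of_hasPullback R.a R.a)
  have e : pullback.diagonal ((jinv p).map R.a) = (jinv p).map (pullback.diagonal R.a) ≫ sq.isoPullback.hom := by
    apply pullback.hom_ext <;>
      simp [← Functor.map_comp]
  show RepWith @QuasiCompact (pullback.diagonal ((jinv p).map R.a))
  rw [e]
  exact (MorphismProperty.cancel_right_of_respectsIso (RepWith @QuasiCompact) _ _).2 (repWith_jinv p h)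

/-- Points of a restriction. -/
noncomputable def down {T : Over B} {G : Sp S} (τ : (yon S).obj ((Over.map p).obj T) ⟶ G) :
    (yon B).obj T ⟶ (jinv p).obj G :=
  (J B).uliftYonedaEquiv.symm ((J S).uliftYonedaEquiv τ)

theorem down_injective {T : Over B} {G : Sp S} : Function.Injective (down (p := p) (T := T) (G := G)) :=
  fun _ _ h => (J S).uliftYonedaEquiv.injective ((J B).uliftYonedaEquiv.symm.injective h)

theorem down_natural {T T' : Over B} (φ : T' ⟶ T) {G : Sp S} (τ : (yon S).obj ((Over.map p).obj T) ⟶ G) :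
    (yon B).map φ ≫ down τ = down ((yon S).map ((Over.map p).map φ) ≫ τ) := by
  apply (J B).uliftYonedaEquiv.injective
  rw [← AlgSpLib.uliftYonedaEquiv_precomp, down, Equiv.apply_symm_apply, down, Equiv.apply_symm_apply,
    ← AlgSpLib.uliftYonedaEquiv_precomp]
  rfl

theorem down_comp {T : Over B} {G G' : Sp S} (τ : (yon S).obj ((Over.map p).obj T) ⟶ G) (a : G ⟶ G') :
    down τ ≫ (jinv p).map a = down (τ ≫ a) := by
  apply (J B).uliftYonedaEquiv.injective
  rw [GrothendieckTopology.uliftYonedaEquiv_comp, down, Equiv.apply_symm_apply, down, Equiv.apply_symm_apply,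
    GrothendieckTopology.uliftYonedaEquiv_comp]
  rfl

theorem down_toU (T : Over B) :
    down ((yon S).map (toU T)) = (AlgSpPts.isTerminalYon B).from ((yon B).obj T) ≫ unitBase p := by
  rw [(AlgSpPts.isTerminalYon B).hom_ext ((AlgSpPts.isTerminalYon B).from _)
    ((yon B).map (Over.mkIdTerminal.from T))]
  apply (J B).uliftYonedaEquiv.injective
  rw [down, Equiv.apply_symm_apply, ← AlgSpLib.uliftYonedaEquiv_precomp, unitBase, Equiv.apply_symm_apply]
  apply ULift.ext
  refine Over.OverMorphism.ext ?_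
  show T.hom = (Over.mkIdTerminal.from T).left ≫ 𝟙 B
  exact (Over.w (Over.mkIdTerminal.from T)).symm

/-- The triple of an automorphism. -/
noncomputable def autTri (T : Over B) (α : Gerb.AutO (x.obj (slc T))) : Tri x x ((Over.map p).obj T) :=
  ⟨toU T, toU T, GerbAffineStab.toFib α⟩

/-- The point of the automorphism space attached to an automorphism. -/
noncomputable def autPt (T : Over B) (α : Gerb.AutO (x.obj (slc T))) : (yon B).obj T ⟶ autBase R :=
  pullback.lift (down (R.pt (autTri T α) rfl)) ((AlgSpPts.isTerminalYon B).from _) (by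
    rw [down_comp, R.pt_a, ← down_toU]
    rfl)

theorem autPt_bijective (T : Over B) : Function.Bijective (autPt R T) := by
  constructor
  · intro α α' h
    have h1 := congrArg (· ≫ pullback.fst ((jinv p).map R.a) (unitBase p)) h
    simp only [autPt, pullback.lift_fst] at h1
    have h2 := R.pt_inj (down_injective h1)
    injection h2 with _ _ h3
    exact GerbAffineStab.toFib_injective (eq_of_heq (heq_of_eq h3))
  · intro τ
    let τ' : (yon S).obj ((Over.map p).obj T) ⟶ R.F.obj :=
      (J S).uliftYonedaEquiv.symm ((J B).uliftYonedaEquiv (τ ≫ pullback.fst _ _))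
    have hd : down τ' = τ ≫ pullback.fst _ _ := by
      apply (J B).uliftYonedaEquiv.injective
      rw [down, Equiv.apply_symm_apply]
      exact (J S).uliftYonedaEquiv.apply_symm_apply _
    have ha : τ' ≫ R.a = (yon S).map (toU T) := down_injective (p := p) (by
      rw [← down_comp, hd, Category.assoc, pullback.condition, down_toU, ← Category.assoc,
        (AlgSpPts.isTerminalYon B).hom_ext (τ ≫ pullback.snd _ _) ((AlgSpPts.isTerminalYon B).from _)])
    obtain ⟨⟨h, g, δ⟩, e, ht⟩ := R.pt_surj τ'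
    dsimp only at e
    subst e
    obtain rfl : g = toU T := (yon S).map_injective (by rw [← ha, ← ht, R.pt_a])
    refine ⟨GerbAffineStab.ofFib δ, pullback.hom_ext ?_ ((AlgSpPts.isTerminalYon B).hom_ext _ _)⟩
    rw [autPt, pullback.lift_fst, ← hd, ← ht]
    refine congrArg down ?_
    simp only [autTri, GerbAffineStab.toFib_ofFib]

theorem pt_congr {T : Over S} {t t' : Tri x x T} (h : t = t') (e : t.g = t.h) (e' : t'.g = t'.h) :
    R.pt t e = R.pt t' e' := by
  subst h
  rfl

theorem autPt_natural {T T' : Over B} (φ : T' ⟶ T) (α : Gerb.AutO (x.obj (slc T))) :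
    (yon B).map φ ≫ autPt R T α = autPt R T' (autRes (x.map (slcMap φ)) α) := by
  refine pullback.hom_ext ?_ ((AlgSpPts.isTerminalYon B).hom_ext _ _)
  rw [autPt, autPt, Category.assoc, pullback.lift_fst, pullback.lift_fst, down_natural, ← R.pt_res]
  refine congrArg down (pt_congr R (IsRes.eq ?_).symm _ _)
  exact ⟨slcMap φ, slcMap φ, rfl, rfl, autRes_spec _ α⟩

/-- Automorphisms are the points of the automorphism space. -/
noncomputable def autEquiv (T : Over B) : Gerb.AutO (x.obj (slc T)) ≃ ((yon B).obj T ⟶ autBase R) :=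
  Equiv.ofBijective _ (autPt_bijective R T)

theorem autEquiv_symm_natural {T T' : Over B} (φ : T' ⟶ T) (τ : (yon B).obj T ⟶ autBase R) :
    (autEquiv R T').symm ((yon B).map φ ≫ τ) = autRes (x.map (slcMap φ)) ((autEquiv R T).symm τ) := by
  rw [Equiv.symm_apply_eq]
  show _ = autPt R T' _
  rw [← autPt_natural]
  exact congrArg ((yon B).map φ ≫ ·) ((autEquiv R T).apply_symm_apply τ).symm

section Sheaves

variable {Z F : Sp B}

/-- A morphism of sheaves given on points. -/
noncomputable def homOfPts (f : ∀ T, ((yon B).obj T ⟶ Z) → ((yon B).obj T ⟶ F))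
    (h : ∀ ⦃T T' : Over B⦄ (φ : T' ⟶ T) z, f T' ((yon B).map φ ≫ z) = (yon B).map φ ≫ f T z) : Z ⟶ F :=
  ObjectProperty.homMk
    { app := fun T => TypeCat.ofHom (fun z => (J B).uliftYonedaEquiv (f T.unop ((J B).uliftYonedaEquiv.symm z)))
      naturality := fun T T' φ => by
        ext z
        have e : ∀ {G : Sp B} (w : (yon B).obj T.unop ⟶ G),
            G.obj.map φ ((J B).uliftYonedaEquiv w) = (J B).uliftYonedaEquiv ((yon B).map φ.unop ≫ w) :=
          fun w => AlgSpLib.uliftYonedaEquiv_precomp φ.unop w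
        show (J B).uliftYonedaEquiv (f _ ((J B).uliftYonedaEquiv.symm (Z.obj.map φ z))) =
          F.obj.map φ ((J B).uliftYonedaEquiv (f _ ((J B).uliftYonedaEquiv.symm z)))
        rw [e, ← h]
        congr 2
        rw [Equiv.symm_apply_eq, ← e, Equiv.apply_symm_apply] }

theorem comp_homOfPts (f : ∀ T, ((yon B).obj T ⟶ Z) → ((yon B).obj T ⟶ F))
    (h : ∀ ⦃T T' : Over B⦄ (φ : T' ⟶ T) z, f T' ((yon B).map φ ≫ z) = (yon B).map φ ≫ f T z) (T : Over B)
    (z : (yon B).obj T ⟶ Z) : z ≫ homOfPts f h = f T z := by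
  apply (J B).uliftYonedaEquiv.injective
  rw [GrothendieckTopology.uliftYonedaEquiv_comp]
  show (J B).uliftYonedaEquiv (f T ((J B).uliftYonedaEquiv.symm ((J B).uliftYonedaEquiv z))) = _
  rw [Equiv.symm_apply_apply]

theorem hom_ext_pts {u v : Z ⟶ F} (h : ∀ T (z : (yon B).obj T ⟶ Z), z ≫ u = z ≫ v) : u = v := by
  apply ObjectProperty.hom_ext
  apply NatTrans.ext
  funext T
  ext z
  have := congrArg (J B).uliftYonedaEquiv (h T.unop ((J B).uliftYonedaEquiv.symm z))
  rw [GrothendieckTopology.uliftYonedaEquiv_comp, GrothendieckTopology.uliftYonedaEquiv_comp,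
    Equiv.apply_symm_apply] at this
  exact this

end Sheaves

/-- The automorphism attached to a point of the automorphism space along a point. -/
noncomputable def ev {Z : Sp B} (u : Z ⟶ autBase R) {T : Over B} (z : (yon B).obj T ⟶ Z) :
    Gerb.AutO (x.obj (slc T)) := (autEquiv R T).symm (z ≫ u)

theorem ev_natural {Z : Sp B} (u : Z ⟶ autBase R) {T T' : Over B} (φ : T' ⟶ T) (z : (yon B).obj T ⟶ Z) :
    ev R u ((yon B).map φ ≫ z) = autRes (x.map (slcMap φ)) (ev R u z) := by
  rw [ev, Category.assoc, autEquiv_symm_natural]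
  rfl

theorem ev_ext {Z : Sp B} {u v : Z ⟶ autBase R} (h : ∀ T (z : (yon B).obj T ⟶ Z), ev R u z = ev R v z) : u = v :=
  hom_ext_pts fun T z => (autEquiv R T).symm.injective (h T z)

/-- Morphisms into the automorphism space from compatible automorphisms. -/
noncomputable def ofEv {Z : Sp B} (f : ∀ T, ((yon B).obj T ⟶ Z) → Gerb.AutO (x.obj (slc T)))
    (h : ∀ ⦃T T' : Over B⦄ (φ : T' ⟶ T) z, f T' ((yon B).map φ ≫ z) = autRes (x.map (slcMap φ)) (f T z)) :
    Z ⟶ autBase R :=
  homOfPts (fun T z => autEquiv R T (f T z)) fun T T' φ z => by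
    rw [h]
    exact (autPt_natural R φ _).symm

theorem ev_ofEv {Z : Sp B} (f : ∀ T, ((yon B).obj T ⟶ Z) → Gerb.AutO (x.obj (slc T)))
    (h : ∀ ⦃T T' : Over B⦄ (φ : T' ⟶ T) z, f T' ((yon B).map φ ≫ z) = autRes (x.map (slcMap φ)) (f T z))
    {T : Over B} (z : (yon B).obj T ⟶ Z) : ev R (ofEv R f h) z = f T z := by
  rw [ev, ofEv, comp_homOfPts, Equiv.symm_apply_apply]

theorem ev_comp {Z W : Sp B} (k : W ⟶ Z) (u : Z ⟶ autBase R) {T : Over B} (z : (yon B).obj T ⟶ W) :
    ev R (k ≫ u) z = ev R u (z ≫ k) := by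
  rw [ev, ev, Category.assoc]

noncomputable instance homGroup (Z : Sp B) : Group (Z ⟶ autBase R) where
  mul u v := ofEv R (fun _ z => ev R u z * ev R v z) fun T T' φ z => by rw [ev_natural, ev_natural, map_mul]
  one := ofEv R (fun _ _ => 1) fun T T' φ z => by rw [map_one]
  inv u := ofEv R (fun _ z => (ev R u z)⁻¹) fun T T' φ z => by rw [ev_natural, _root_.map_inv]
  mul_assoc u v w := ev_ext R fun T z => by
    show ev R (ofEv R _ _) z = ev R (ofEv R _ _) z
    simp only [ev_ofEv]
    show ev R (ofEv R _ _) z * _ = _ * ev R (ofEv R _ _) z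
    simp only [ev_ofEv, mul_assoc]
  one_mul u := ev_ext R fun T z => by
    show ev R (ofEv R _ _) z = _
    simp only [ev_ofEv]
    show ev R (ofEv R _ _) z * _ = _
    simp only [ev_ofEv, one_mul]
  mul_one u := ev_ext R fun T z => by
    show ev R (ofEv R _ _) z = _
    simp only [ev_ofEv]
    show _ * ev R (ofEv R _ _) z = _
    simp only [ev_ofEv, mul_one]
  inv_mul_cancel u := ev_ext R fun T z => by
    show ev R (ofEv R _ _) z = ev R (ofEv R _ _) z
    simp only [ev_ofEv]
    exact inv_mul_cancel _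

theorem comp_mul {Z W : Sp B} (k : W ⟶ Z) (u v : Z ⟶ autBase R) : k ≫ (u * v) = k ≫ u * k ≫ v :=
  ev_ext R fun T z => by
    rw [ev_comp]
    show ev R (ofEv R _ _) _ = ev R (ofEv R _ _) _
    simp only [ev_ofEv, ev_comp]

/-- The automorphism space as an object over the final sheaf. -/
noncomputable abbrev autOver : Over ((yon B).obj (Over.mk (𝟙 B))) :=
  Over.mk ((AlgSpPts.isTerminalYon B).from (autBase R))

/-- The group valued functor represented by the automorphism space. -/
noncomputable def autFun : (Over ((yon B).obj (Over.mk (𝟙 B))))ᵒᵖ ⥤ GrpCat.{u + 1} where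
  obj Z := GrpCat.of (Z.unop.left ⟶ autBase R)
  map k := GrpCat.ofHom (MonoidHom.mk' (fun u => k.unop.left ≫ u) (fun u v => comp_mul R _ u v))
  map_id Z := GrpCat.hom_ext (MonoidHom.ext fun u => Category.id_comp u)
  map_comp k l := GrpCat.hom_ext (MonoidHom.ext fun u => Category.assoc _ _ u)

/-- The representation. -/
noncomputable def autRepBy : (autFun R ⋙ forget GrpCat).RepresentableBy (autOver R) where
  homEquiv {Z} :=
    { toFun := fun k => k.left
      invFun := fun u => CategoryTheory.Over.homMk u ((AlgSpPts.isTerminalYon B).hom_ext _ _)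
      left_inv := fun k => Over.OverMorphism.ext rfl
      right_inv := fun u => rfl }
  homEquiv_comp f g := rfl

/-- The group structure on the automorphism space. -/
noncomputable instance grpObjAutOver : GrpObj (autOver R) := GrpObj.ofRepresentableBy _ _ (autRepBy R)

end Groth.Agent.H14Misc
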