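import Groth.Agent.AlgSpPts.SepDescent
import Groth.Agent.AlgStLib.DiagCover
import Groth.Agent.AlgStLib.RepDiag
import Groth.Agent.AlgStLib.LocEss
import Groth.Agent.AlgStLib.DiagLFT
import Groth.Agent.AlgStLib.SepUnivClosed
import Groth.Agent.AlgStLib.SpProps
import Groth.Agent.AlgSpLib.LocalSourceInst
import Groth.Agent.AlgSpDec.LqfScheme
import Groth.Agent.S12969
import Mathlib.AlgebraicGeometry.ZariskisMainTheorem

/-!
# The diagonal of a Deligne-Mumford stack with separated quasi-compact diagonal is quasi-affine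
-/

set_option backward.isDefEq.respectTransparency false
set_option backward.isDefEq.respectTransparency.types false

universe u

open CategoryTheory CategoryTheory.Functor Limits AlgebraicGeometry AlgSp
open Groth.Agent.AlgSpLib Groth.Agent.AlgSpPts Groth.Agent.AlgSpDec Groth.Agent.AlgStLib

namespace Groth.Agent.H14Misc

variable {S : Scheme.{u}}

theorem isQuasiAffine_of_lqf_separated {W Z : Scheme.{u}} (i : W ⟶ Z) [IsAffine Z] [QuasiCompact i]
    [IsSeparated i] [LocallyQuasiFinite i] [LocallyOfFiniteType i] : W.IsQuasiAffine := by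
  have : i.normalization.IsQuasiAffine :=
    have : IsAffine i.normalization := isAffine_of_isAffineHom i.fromNormalization
    inferInstance
  have : CompactSpace W := QuasiCompact.compactSpace_of_compactSpace i
  exact Scheme.IsQuasiAffine.of_isImmersion i.toNormalization

theorem isQuasiAffineMor_of_lqf_separated {F G : Sp S} (hF : IsAlgSpace F) (hG : IsAlgSpace G) (f : F ⟶ G)
    (hqf : LocP (@LocallyQuasiFinite ⊓ @LocallyOfFiniteType) f) (hsep : IsSeparatedMor f)
    (hqc : IsQuasiCompactMor f) : IsQuasiAffineMor f := by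
  intro Z hZ g
  obtain ⟨W, i, fst, sq⟩ := representable_of_lqf_separated hF hG f hqf hsep g
  refine ⟨W, i, fst, sq, ?_⟩
  have := hZ
  have : CompactSpace ↥Z.left := inferInstance
  have h1 := isSeparatedMor_of_isPullback sq hsep
  have h2 := locP_of_isPullback sq hF hG (IsAlgSpace.yon_obj Z) hqf
  have h3 : IsQuasiCompactMor ((yon S).map i) := isQuasiCompactMor_of_isPullback sq hqc
  have : IsSeparated i.left := (isSeparatedMor_yon_map_iff i).1 h1
  obtain ⟨_, _⟩ := h2 (𝟙 _) (𝟙 _) i (repWith_id _ W) (repWith_id _ Z) (by simp)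
  have : QuasiCompact i.left := quasiCompact_of_isQuasiCompactMor i h3
  exact isQuasiAffine_of_lqf_separated i.left

theorem repByAlgSpWith_quasiAffine_diag {𝒳 : AlgSt.Cat S} (h : AlgSt.IsDM Scheme.etalePrecoverage 𝒳)
    (hsep : AlgSt.RepByAlgSpWith IsSeparatedMor (FibCat.diag (FibCat.toSelf 𝒳)))
    (hqc : AlgSt.RepByAlgSpWith IsQuasiCompactMor (FibCat.diag (FibCat.toSelf 𝒳))) :
    AlgSt.RepByAlgSpWith IsQuasiAffineMor (FibCat.diag (FibCat.toSelf 𝒳)) := by
  obtain ⟨h𝒳, U, x, hx, hxs⟩ := h
  have het : AlgSt.RepByAlgSpWith (LocP @Etale) x :=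
    repByAlgSpWith_mono (fun _ _ _ ha => locP_etale_of_isEtaleMor ha) hx
  have hunr : AlgSt.RepByAlgSpWith (LocP (@LocallyOfFiniteType ⊓ @FormallyUnramified)) x :=
    repByAlgSpWith_mono (fun _ _ _ ha => locP_mono (fun _ _ g hg => by
      have : Etale g := hg
      exact ⟨inferInstance, inferInstance⟩) ha) het
  have hΔ : AlgSt.RepByAlgSpWith (LocP (@LocallyOfFiniteType ⊓ @FormallyUnramified))
      (FibCat.diag (FibCat.toSelf 𝒳)) :=
    repByAlgSpWith_diag_toSelf_of_cover stableBC_locP isLocalOnBase_unr cancels_unr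
      (repByAlgSp1_toSelf_overCat U) h𝒳.diag hunr
      (locEssSurj_of_repByAlgSp
        (repByAlgSpWith_mono (fun _ _ _ ha => locP_mono (fun _ _ g hg => by
          have : Etale g := hg
          exact inferInstanceAs (Flat g)) ha) het)
        (repByAlgSpWith_mono (fun _ _ _ ha => locP_mono (fun _ _ g hg => by
          have : Etale g := hg
          exact inferInstanceAs (LocallyOfFinitePresentation g)) ha) het)
        hxs)
  exact repByAlgSpWith_mono_space
    (fun hF hG a ha => isQuasiAffineMor_of_lqf_separated hF hG a (unr_le_lqf _ ha.1) ha.2.1 ha.2.2)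
    (repByAlgSpWith_and stableBC_locP hΔ (repByAlgSpWith_and stableBC_isSeparatedMor hsep hqc))

end Groth.Agent.H14Misc
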