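import Groth.Agent.AlgSpDec.ResidualSpace
import Groth.Agent.GerbFlat.Main
import Groth.Agent.GerbLib.Equiv
import Groth.Agent.AlgStLib.Stack
import Groth.Agent.AlgStLib.OverSpace
import Groth.Agent.AlgStLib.Pts
import Groth.Agent.AlgStLib.LocQ
import Groth.Agent.AlgSpLib.FpqcDescent

/-!
# Residual gerbes of gerbes over algebraic spaces
-/

set_option backward.isDefEq.respectTransparency false
set_option backward.isDefEq.respectTransparency.types false

universe u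

open CategoryTheory CategoryTheory.Functor Limits AlgebraicGeometry AlgSp
open Groth.Agent.AlgSpLib Groth.Agent.AlgStLib Groth.Agent.AlgSpDec

namespace Groth.Agent.H14Misc

variable {S : Scheme.{u}}

theorem resGerbeExists_of_gerbe {𝒳 : AlgSt.Cat S} (h𝒳 : AlgSt.IsAlgStack Scheme.fppfPrecoverage 𝒳)
    (X : AlgSp.Space S) (π : 𝒳 ⥤ᵇ AlgSt.ofSp X.obj)
    (hπ : Gerb.IsGerbeOver (QuotSh.J Scheme.fppfPrecoverage S) π) (x : AlgSt.Points 𝒳) :
    Gerb.ResGerbeExists Scheme.fppfPrecoverage 𝒳 x := by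
  obtain ⟨Z, i, k, _, str, p, hZ, hi, hr, -, -⟩ := exists_residual X.property (spPt (AlgSt.Points.map π x))
  let Z' : AlgSp.Space S := ⟨Z, hZ⟩
  let g : AlgSt.ofSp Z ⥤ᵇ AlgSt.ofSp X.obj := AlgSt.ofSpMap i
  have hgS : AlgSt.IsAlgStack Scheme.fppfPrecoverage (AlgSt.ofSp Z) := isAlgStack_ofSp Z'
  have hXS := isAlgStack_ofSp X
  have hg : AlgSt.IsMono g := repByAlgSpWith_ofSpMap stableBC_of hZ X.property i hi
  have h𝒵 : AlgSt.IsAlgStack Scheme.fppfPrecoverage (FibCat.fp g π) :=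
    isAlgStack_fp hgS h𝒳 hXS.isStack hXS.diag g π
  have hm : AlgSt.IsMono (FibCat.fpSnd g π) := repByAlgSpWith_fpSnd π hg
  have hinj : Function.Injective (AlgSt.Points.map g) :=
    pts_map_injective_of_isMono hgS.isStack.1 hXS.isStack.1 hg
  have hZp : ∀ w : AlgSt.Points (AlgSt.ofSp Z), AlgSt.Points.map g w = AlgSt.Points.map π x := fun w =>
    spPt_bijective.1 (by
      rw [spPt_map_ofSpMap]
      exact (Set.ext_iff.1 hr _).1 ⟨_, rfl⟩)
  have hsub : Subsingleton (AlgSt.Points (AlgSt.ofSp Z)) :=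
    ⟨fun a b => hinj ((hZp a).trans (hZp b).symm)⟩
  obtain ⟨z, hz⟩ : spPt (AlgSt.Points.map π x) ∈ Set.range (AlgSp.Points.map i) := hr.symm ▸ rfl
  obtain ⟨z, rfl⟩ := spPt_bijective.2 z
  obtain ⟨w, -, hw⟩ := exists_pts_fp h𝒳.isStack.1 hXS.isStack.1 hgS.isStack.1 π g z x (hZp z)
  have : Subsingleton (AlgSt.Points (FibCat.fp g π)) :=
    ⟨fun a b => ((GerbFlat.isUnivHomeo_of_isGerbeOver h𝒳 hXS hπ) _ hgS g).injective (Subsingleton.elim _ _)⟩
  exact ⟨FibCat.fp g π, FibCat.fpSnd g π, h𝒵, hm, ⟨w⟩, this, fun z => by rw [Subsingleton.elim z w, hw]⟩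

end Groth.Agent.H14Misc
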