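import Groth.Agent.H14Misc.AutShBase
import Groth.Agent.GrpScheme13.Main
import Groth.Agent.AlgSpDec.SepOverField
import Groth.Agent.AlgSpDec.Basic
import Groth.Agent.AlgStLib.DiagLFT

/-!
# Stabilizers are group schemes
-/

set_option autoImplicit false
set_option backward.isDefEq.respectTransparency false
set_option backward.isDefEq.respectTransparency.types false

universe u

open CategoryTheory CategoryTheory.Functor CategoryTheory.Limits AlgebraicGeometry Opposite AlgSp MonoidalCategory MonObj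
open Groth.Agent.AlgStLib
open Groth.Agent.FibBase Groth.Agent.AlgSpLib Groth.Agent.AlgSpBase Groth.Agent.IsoNatLib

namespace Groth.Agent.H14Misc

variable {S : Scheme.{u}} {B : Scheme.{u}} {p : B ⟶ S} {𝒳 : AlgSt.Cat S} [hf : FibCat.IsFibGrpd 𝒳.p]
  {x : FibCat.overCat (Over.mk p) ⥤ᵇ 𝒳}

variable (x) in
/-- The automorphism presheaf on schemes over the base. -/
noncomputable def slcAutFun : (Over B)ᵒᵖ ⥤ GrpCat.{u} where
  obj T := GrpCat.of (Gerb.AutO (x.obj (slc T.unop)))
  map φ := GrpCat.ofHom (autRes (x.map (slcMap φ.unop)))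
  map_id T := GrpCat.hom_ext (MonoidHom.ext fun α => autRes_eq (by
    rw [show slcMap (p := p) (𝟙 T : T ⟶ T).unop = 𝟙 _ from Over.OverMorphism.ext ((Over.map p).map_id _),
      x.toFunctor.map_id]
    exact (Category.comp_id _).trans (Category.id_comp _).symm))
  map_comp φ ψ := GrpCat.hom_ext (MonoidHom.ext fun α => by
    show autRes (x.map (slcMap (φ ≫ ψ).unop)) α = autRes (x.map (slcMap ψ.unop)) (autRes (x.map (slcMap φ.unop)) α)
    rw [show slcMap (p := p) (φ ≫ ψ).unop = slcMap ψ.unop ≫ slcMap φ.unop from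
      Over.OverMorphism.ext ((Over.map p).map_comp _ _), x.toFunctor.map_comp, autRes_comp])

/-- An object over the point is a slice over the base. -/
noncomputable def slcIso (T : Over (Over.mk p)) :
    slc (p := p) ((Over.iteratedSliceForward (Over.mk p)).obj T) ≅ T :=
  Over.isoMk (Over.isoMk (Iso.refl _) (by
    show 𝟙 _ ≫ T.left.hom = T.hom.left ≫ p
    rw [Category.id_comp]
    exact (Over.w T.hom).symm)) (Over.OverMorphism.ext (Category.id_comp _))

theorem slcIso_natural {T' T : Over (Over.mk p)} (h : T' ⟶ T) :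
    slcMap ((Over.iteratedSliceForward (Over.mk p)).map h) ≫ (slcIso T).hom = (slcIso T').hom ≫ h :=
  Over.OverMorphism.ext (Over.OverMorphism.ext ((Category.comp_id h.left.left).trans (Category.id_comp _).symm))

theorem exists_grpScheme {K : Type u} [Field K] {p : Spec (CommRingCat.of K) ⟶ S}
    {x : FibCat.overCat (Over.mk p) ⥤ᵇ 𝒳} (R : IsoNatLib.AutRep x) (hR : IsQuasiSeparatedMor R.a) :
    ∃ (G : Over (Spec (CommRingCat.of K))) (_ : GrpObj G),
      Nonempty (Gerb.AutRep x (Gerb.ptsGrp (Over.mk p) G)) := by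
  have hA : IsAlgSpace (autOver R).left := isAlgSpace_autBase R
  have hd : IsDecent (autOver R).left :=
    AlgSpDec.isDecent_of_isQuasiSeparatedSp hA (isQuasiSeparatedSp_autBase R hR)
  have hs : IsSeparatedSp (autOver R).left :=
    AlgSpDec.SepOverField.isSeparatedSp_of_grpObj (AlgSpPts.isTerminalYon _) (autOver R)
      (AlgSpDec.SepOverField.repWith_section hA hd (𝟙 _) (η[autOver R]).left (autOver R).hom (Over.w η[autOver R]))
  obtain ⟨Q, ⟨hQ⟩⟩ := (GrpScheme13.isRepresentable (autOver R) hA hs).has_representation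
  let e0 : (yon _).obj Q ≅ autBase R := AlgSp.isoOfRepresentableBy hQ
  let rep : (slcAutFun x ⋙ forget GrpCat).RepresentableBy Q :=
    { homEquiv := fun {T} => ((FullyFaithful.ofFullyFaithful (yon _)).homEquiv (X := T) (Y := Q)).trans
        ((Iso.homCongr (Iso.refl _) e0).trans (autEquiv R T).symm)
      homEquiv_comp := fun {T T'} f g => by
        show (autEquiv R T).symm (𝟙 _ ≫ (yon _).map (f ≫ g) ≫ e0.hom) =
          autRes (x.map (slcMap f)) ((autEquiv R T').symm (𝟙 _ ≫ (yon _).map g ≫ e0.hom))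
        rw [Category.id_comp, Category.id_comp, Functor.map_comp, Category.assoc, autEquiv_symm_natural] }
  let gr : GrpObj Q := GrpObj.ofRepresentableBy Q _ rep
  let ν := yonedaGrpObjIsoOfRepresentableBy Q (slcAutFun x) rep
  refine ⟨Q, gr, ⟨{
    iso := fun T => (ν.app (op ((Over.iteratedSliceForward (Over.mk p)).obj T))).groupIsoToMulEquiv.trans
      (autResEquiv ((Functor.mapIso x.toFunctor (slcIso T)).symm))
    natural := ?_ }⟩⟩
  intro T' T h a
  let Φ := Over.iteratedSliceForward (Over.mk p)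
  let α := (ν.hom.app (op (Φ.obj T))).hom a
  let a' := ((Gerb.ptsGrp (Over.mk p) Q).map h.op) a
  let α' := (ν.hom.app (op (Φ.obj T'))).hom a'
  show (autRes (x.map (slcIso T').inv) α').hom.1 ≫ x.map h = x.map h ≫ (autRes (x.map (slcIso T).inv) α).hom.1
  have hn : α' = autRes (x.map (slcMap (Φ.map h))) α :=
    congrArg (fun k => k.hom a) (ν.hom.naturality (Φ.map h).op)
  have hsq : (slcIso T').inv ≫ slcMap (Φ.map h) = h ≫ (slcIso T).inv := by
    rw [Iso.inv_comp_eq, ← Category.assoc, Iso.eq_comp_inv]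
    exact slcIso_natural h
  have key : autRes (x.map h) (autRes (x.map (slcIso T).inv) α) = autRes (x.map (slcIso T').inv) α' := by
    rw [hn, ← autRes_comp, ← autRes_comp, ← x.toFunctor.map_comp, ← x.toFunctor.map_comp, hsq]
  rw [← key]
  exact autRes_spec _ _

end Groth.Agent.H14Misc

namespace Groth.Agent.H14Misc

variable {S : Scheme.{u}} {𝒳 : AlgSt.Cat S}

theorem exists_stabilizer_scheme (hg : FibCat.IsFibGrpd 𝒳.p)
    (hlft : AlgSt.RepByAlgSpWith (LocP @LocallyOfFiniteType) (FibCat.diag (FibCat.toSelf 𝒳)))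
    (hΔ : AlgSt.RepByAlgSpWith IsQuasiSeparatedMor (FibCat.diag (FibCat.toSelf 𝒳)))
    {K : Type u} [Field K] (p : Spec (CommRingCat.of K) ⟶ S) (x : FibCat.overCat (Over.mk p) ⥤ᵇ 𝒳) :
    ∃ (G : Over (Spec (CommRingCat.of K))) (_ : GrpObj G),
      LocallyOfFiniteType G.hom ∧ Nonempty (Gerb.AutRep x (Gerb.ptsGrp (Over.mk p) G)) := by
  haveI := hg
  obtain ⟨R₁, hR₁⟩ := IsoNatLib.exists_autRep (v := x) (AlgStLib.repByAlgSpWith_inertiaToBase _ hΔ)
  obtain ⟨R₂, hR₂⟩ := IsoNatLib.exists_autRep (v := x) (AlgStLib.repByAlgSpWith_inertiaToBase _ hlft)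
  obtain ⟨G, gG, ⟨r⟩⟩ := exists_grpScheme R₁ hR₁
  refine ⟨G, gG, ?_, ⟨r⟩⟩
  obtain ⟨e₂, he₂⟩ := GerbAffineStab.iso_of_autRep (V := Over.mk p) G r R₂
  have : LocP @LocallyOfFiniteType (e₂.hom ≫ R₂.a) :=
    locP_of_isPullback (IsPullback.of_horiz_isIso ⟨by simp⟩ : IsPullback e₂.hom (e₂.hom ≫ R₂.a) R₂.a (𝟙 _))
      R₂.F.property (IsAlgSpace.yon_obj _) (IsAlgSpace.yon_obj _) hR₂
  rw [he₂] at this
  exact locP_yon_map (P := @LocallyOfFiniteType) this

end Groth.Agent.H14Misc
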